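import Groth.Agent.FinConnQuotLib.Points
import Groth.Agent.SemiAbLib.Exponent
import Groth.Agent.SemiAbLib.PowField
import Groth.Agent.AntiAffLib.Image
import Groth.Agent.AntiAffLib.KerSub
import Groth.Agent.WeilResLib.PowEtale
import Groth.Agent.FrobQuotLib.Main
import Groth.Agent.ExtGmLib.Props
import Groth.Agent.GrpFieldLib.KerShear
import Groth.Agent.S8414
import Groth.Agent.S3030

/-!
A commutative algebraic group has a finite subgroup with smooth connected quotient.
-/

set_option autoImplicit false
set_option linter.style.haveILetI false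
set_option backward.isDefEq.respectTransparency false
set_option backward.isDefEq.respectTransparency.types false
set_option maxHeartbeats 1000000

noncomputable section

universe u

open CategoryTheory CategoryTheory.Limits MonoidalCategory CartesianMonoidalCategory AlgebraicGeometry
open scoped MonObj
open Groth.Agent

attribute [-instance] CategoryTheory.Hom.commGroup

namespace FinConnQuot

variable {k : Type u} [Field k]

/-- A faithfully flat homomorphism with finite kernel is finite. -/
theorem isFinite_of_kernel {N A B : Over (Spec (CommRingCat.of k))} [GrpObj N] [GrpObj A] [GrpObj B]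
    (i : N ⟶ A) (q : A ⟶ B) [IsMonHom i] [IsMonHom q] [IsFinite N.hom] [Flat q.left] [Surjective q.left]
    [LocallyOfFinitePresentation q.left] (hk : AlgGrp.IsKernel i q) (hqc : QuasiCompact q.left) : IsFinite q.left := by
  have sq := (Groth.Agent.GrpKerShear.isPullback_shear q i hk).map (Over.forget _)
  haveI : IsFinite (fst A N).left := TorsExtLib.property_fst (Q := @IsFinite) A N ‹_›
  haveI : MorphismProperty.DescendsAlong @IsFinite
      (@Surjective ⊓ @Flat ⊓ @QuasiCompact : MorphismProperty Scheme.{u}) := AlgSpLib.descendsAlong_isFinite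
  haveI : QuasiCompact q.left := hqc
  exact MorphismProperty.of_isPullback_of_descendsAlong (P := @IsFinite)
    (Q := @Surjective ⊓ @Flat ⊓ @QuasiCompact) sq.flip.flip
    ⟨⟨‹Surjective q.left›, ‹Flat q.left›⟩, hqc⟩ ‹IsFinite (fst A N).left›

/-- A finite faithfully flat map to a smooth group. -/
theorem exists_finite_smooth (G : Over (Spec (CommRingCat.of k))) [GrpObj G] [LocallyOfFiniteType G.hom]
    [QuasiCompact G.hom] :
    ∃ (Q : Over (Spec (CommRingCat.of k))) (_ : GrpObj Q) (v : G ⟶ Q), IsMonHom v ∧ Smooth Q.hom ∧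
      Flat v.left ∧ Surjective v.left ∧ IsFinite v.left ∧ QuasiCompact Q.hom := by
  obtain ⟨H, Q, _, _, i, v, hH, -, hQ, -, hex⟩ := FrobQuotLib.exists_smooth_quotient G
  haveI := hH; haveI := hQ
  have h := ExtGm.isExt_of_isExactSeq hex
  haveI := h.mon_u; haveI := h.mon_v
  haveI : LocallyOfFinitePresentation H.hom := UOpenLib.locallyOfFinitePresentation_of_isLocallyNoetherian H.hom
  haveI : Flat H.hom := GrpField.flat_field _
  obtain ⟨-, hvf, hvl, hvs⟩ := ExtGm.props_of_isExt h
  haveI := hvf; haveI := hvl; haveI := hvs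
  have hk : AlgGrp.IsKernel i v := by
    have hw : i ≫ v = toUnit H ≫ η[Q] := h.comp.trans Hom.one_def
    choose l hl huniq using fun c : PullbackCone v (η[Q] : 𝟙_ _ ⟶ Q) => h.ker _ 1 c.fst (by
      rw [MonObj.one_comp, c.condition, toUnit_unique c.snd (toUnit _), ← Hom.one_def])
    refine ⟨⟨hw⟩, ⟨PullbackCone.IsLimit.mk _ l (fun c => ?_) (fun c => toUnit_unique _ _) (fun c m h1 _ => ?_)⟩⟩
    · simpa using hl c
    · exact huniq c m (by simpa using h1)
  haveI : CompactSpace G.left := QuasiCompact.compactSpace_of_compactSpace G.hom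
  haveI : CompactSpace Q.left := ⟨by
    rw [← Set.range_eq_univ.mpr v.left.surjective]; exact isCompact_range v.left.continuous⟩
  haveI : IsSeparated Q.hom := GrpField.isSeparated_grp (G := Q)
  have hvqc : QuasiCompact v.left := by
    haveI : QuasiCompact (v.left ≫ Q.hom) := by rw [Over.w v]; infer_instance
    exact QuasiCompact.of_comp v.left Q.hom
  exact ⟨Q, inferInstance, v, inferInstance, hQ, hvf, hvs, isFinite_of_kernel i v hk hvqc, quasiCompact_of_compactSpace _⟩

/-- A commutative torsion group of finite type has a finite subgroup meeting every connected component. -/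
theorem exists_finite_meeting (H : Over (Spec (CommRingCat.of k))) [GrpObj H] [IsCommMonObj H]
    [LocallyOfFiniteType H.hom] [QuasiCompact H.hom] {n : ℕ} (hn : 0 < n) (hH : (𝟙 H) ^ n = 1) :
    ∃ (N : Over (Spec (CommRingCat.of k))) (_ : GrpObj N) (j : N ⟶ H), IsMonHom j ∧ IsClosedImmersion j.left ∧
      IsFinite N.hom ∧ ∀ y : H.left, ∃ z : N.left, j.left z ∈ connectedComponent y := by
  obtain ⟨U, _, v, hv, hUs, hvf, hvs, hvfin, hUq⟩ := exists_finite_smooth H
  haveI := hv; haveI := hUs; haveI := hvf; haveI := hvs; haveI := hvfin; haveI := hUq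
  haveI := AntiAffLib.lfp_of_lft v
  haveI : Epi v := Groth.Agent.MonoQuot.epi_over v
  haveI : IsCommMonObj U := AntiAffLib.CommCat.isComm_of_epi v
  have hU : (𝟙 U) ^ n = 1 := by
    rw [← cancel_epi v, MonObj.comp_pow, Category.comp_id, ← Category.id_comp v, ← MonObj.pow_comp, hH,
      MonObj.one_comp, Category.id_comp, MonObj.comp_one]
  haveI : IsLocallyNoetherian H.left := LocallyOfFiniteType.isLocallyNoetherian H.hom
  haveI : CompactSpace H.left := QuasiCompact.compactSpace_of_compactSpace H.hom
  haveI : IsNoetherian H.left := {}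
  haveI : TopologicalSpace.NoetherianSpace H.left := inferInstance
  have hfinI := TopologicalSpace.NoetherianSpace.finite_irreducibleComponents (α := H.left)
  haveI : Finite (_root_.ConnectedComponents H.left) := by
    haveI := hfinI.to_subtype
    refine Finite.of_surjective (fun Z : irreducibleComponents H.left =>
      ((Set.Nonempty.some (IsIrreducible.nonempty (Z.2.1)) : H.left) : _root_.ConnectedComponents H.left)) fun c => ?_
    obtain ⟨y, rfl⟩ := _root_.ConnectedComponents.surjective_coe c
    refine ⟨⟨irreducibleComponent y, irreducibleComponent_mem_irreducibleComponents y⟩, ?_⟩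
    refine _root_.ConnectedComponents.coe_eq_coe'.2 ?_
    exact isIrreducible_irreducibleComponent.isConnected.isPreconnected.subset_connectedComponent
      mem_irreducibleComponent (Set.Nonempty.some_mem _)
  haveI : UniversallyOpen v.left := inferInstance
  let O : _root_.ConnectedComponents H.left → Set U.left := fun c => v.left '' connectedComponent c.out
  have hO : ∀ c, IsOpen (O c) := fun c =>
    v.left.isOpenMap _ (GenSub.isClopen_connectedComponent_of_finite hfinI _).isOpen
  obtain ⟨Γ, _, i, hi, hic, hΓ, hmeet⟩ := exists_finite_subgroup hn hU O hO fun c =>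
    ⟨_, _, mem_connectedComponent, rfl⟩
  haveI := hi; haveI := hic; haveI := hΓ
  haveI : Mono i := Over.mono_of_mono_left i
  have sq := IsPullback.of_hasPullback i v
  obtain ⟨_, hj⟩ := S8414.exists_grpObj_pullback sq
  have hsq := sq.map (Over.forget _)
  haveI : IsClosedImmersion (pullback.snd i v).left :=
    MorphismProperty.of_isPullback (P := @IsClosedImmersion) hsq hic
  haveI : IsFinite (pullback.fst i v).left :=
    MorphismProperty.of_isPullback (P := @IsFinite) hsq.flip hvfin
  refine ⟨pullback i v, inferInstance, pullback.snd i v, hj, inferInstance, ?_, fun y => ?_⟩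
  · rw [← Over.w (pullback.fst i v)]; infer_instance
  · obtain ⟨g, hg⟩ := hmeet (y : _root_.ConnectedComponents H.left)
    obtain ⟨h, hh, hhg⟩ := hg
    obtain ⟨z, -, hz⟩ := Scheme.exists_preimage_of_isPullback hsq g h hhg.symm
    refine ⟨z, ?_⟩
    replace hz : (pullback.snd i v).left z = h := hz
    show (pullback.snd i v).left z ∈ _
    erw [hz]
    have e : ((Quotient.out (y : _root_.ConnectedComponents H.left) : H.left) : _root_.ConnectedComponents H.left) =
        (y : _root_.ConnectedComponents H.left) := Quotient.out_eq _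
    rwa [← connectedComponent_eq (_root_.ConnectedComponents.coe_eq_coe'.1 e)] at hh

/-- Some power map lands in a connected subgroup with surjective power map. -/
theorem exists_divisible_part (G : Over (Spec (CommRingCat.of k))) [GrpObj G] [IsCommMonObj G]
    [LocallyOfFiniteType G.hom] [QuasiCompact G.hom] :
    ∃ (S : Over (Spec (CommRingCat.of k))) (_ : GrpObj S) (s : S ⟶ G) (n : ℕ), IsMonHom s ∧
      IsClosedImmersion s.left ∧ GeometricallyIrreducible S.hom ∧ 0 < n ∧
      (∃ g : G ⟶ S, g ≫ s = 𝟙 G ^ n) ∧ Surjective (𝟙 S ^ n).left := by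
  rcases CharP.exists' k with h0 | ⟨p, hp, hch⟩
  · haveI := h0
    obtain ⟨G₀, _, i₀, hi₀, hi₀c, hi₀f, -, hG₀g, -⟩ := GrpField.exists_identity_component (G := G)
    haveI := hi₀; haveI := hi₀c; haveI := hi₀f; haveI := hG₀g
    haveI : LocallyOfFiniteType G₀.hom := by rw [← Over.w i₀]; infer_instance
    haveI : QuasiCompact G₀.hom := by rw [← Over.w i₀]; infer_instance
    haveI : Mono i₀ := Over.mono_of_mono_left i₀
    haveI : IsCommMonObj G₀ := AntiAffLib.CommCat.isComm_of_mono i₀
    haveI := AntiAffLib.lfp_of_lft i₀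
    haveI : IsOpenImmersion i₀.left := IsOpenImmersion.of_flat_of_mono _
    obtain ⟨n, hn, c, hc⟩ := SemiAbLib.exists_pow_component i₀
    refine ⟨G₀, inferInstance, i₀, n, hi₀, hi₀c, hG₀g, Nat.pos_of_ne_zero hn, ⟨c, hc⟩, ?_⟩
    let f := (𝟙 G₀ : G₀ ⟶ G₀) ^ n
    haveI : IsMonHom f := by
      show IsMonHom ((𝟙 G₀) ^ n)
      rw [← zpow_natCast]; exact AbSchLib.isMonHom_zpow G₀ _
    haveI : Etale f.left := WeilResLib.etale_pow G₀ n (Nat.cast_ne_zero.2 hn)
    haveI : IsSeparated G₀.hom := GrpField.isSeparated_grp (G := G₀)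
    haveI : QuasiCompact f.left := by
      haveI : QuasiCompact (f.left ≫ G₀.hom) := by rw [Over.w]; infer_instance
      exact QuasiCompact.of_comp f.left G₀.hom
    obtain ⟨C, _, π, iC, -, -, hπi, -, hπs, -, hiCc⟩ := GrpHom.exists_fppf_image f (GrpField.flat_field _)
    haveI := hπs; haveI := hiCc
    haveI : IrreducibleSpace G₀.left := GeometricallyIrreducible.irreducibleSpace_of_subsingleton G₀.hom
    have hr : Set.range f.left = Set.range iC.left := by
      rw [← hπi, Over.comp_left, Scheme.Hom.comp_base, TopCat.coe_comp]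
      exact π.left.surjective.range_comp _
    refine ⟨fun y => ?_⟩
    have hcl : IsClopen (Set.range f.left) :=
      ⟨hr ▸ iC.left.isClosedEmbedding.isClosed_range, f.left.isOpenMap.isOpen_range⟩
    show y ∈ Set.range f.left
    rw [hcl.eq_univ (Set.range_nonempty _)]
    trivial
  · haveI := hp; haveI := hch
    obtain ⟨S, _, s, n, hs, hsc, hS, hn, hg⟩ := SemiAbLib.exists_semiAb_exponent p G
    haveI := hs; haveI := hsc
    haveI : LocallyOfFiniteType S.hom := by rw [← Over.w s]; infer_instance
    haveI : QuasiCompact S.hom := by rw [← Over.w s]; infer_instance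
    obtain ⟨hSs, hSc⟩ := hS.props
    haveI := hSs; haveI := hSc
    haveI := AlbLib.geometricallyIntegral_grp S
    exact ⟨S, inferInstance, s, n, hs, hsc, inferInstance, hn, hg, (hS.pow_spec' hn.ne').2.1⟩

/-- The finite subgroup with smooth connected quotient. -/
theorem exists_finite_quotient (G : Over (Spec (CommRingCat.of k))) [GrpObj G] [IsCommMonObj G]
    [LocallyOfFiniteType G.hom] [QuasiCompact G.hom] :
    ∃ (E Q : Over (Spec (CommRingCat.of k))) (_ : GrpObj E) (_ : GrpObj Q) (i : E ⟶ G) (q : G ⟶ Q)
      (_ : IsMonHom i) (_ : IsMonHom q),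
      Mono i ∧ IsFinite E.hom ∧ AlgGrp.IsKernel i q ∧ Flat q.left ∧ Surjective q.left ∧
        Smooth Q.hom ∧ ConnectedSpace Q.left := by
  obtain ⟨S, _, s, n, hs, hsc, hSg, hn, ⟨g, hg⟩, hns⟩ := exists_divisible_part G
  haveI := hs; haveI := hsc; haveI := hSg; haveI := hns
  haveI : LocallyOfFiniteType S.hom := by rw [← Over.w s]; infer_instance
  haveI : QuasiCompact S.hom := by rw [← Over.w s]; infer_instance
  haveI : Mono s := Over.mono_of_mono_left s
  haveI : IsMonHom ((𝟙 G) ^ n) := by rw [← zpow_natCast (𝟙 G) n]; exact AbSchLib.isMonHom_zpow G _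
  obtain ⟨H, _, h, hh, hhc, hhk, -⟩ := AntiAffLib.exists_kernel ((𝟙 G) ^ n)
  haveI := hh; haveI := hhc
  haveI : Mono h := Over.mono_of_mono_left h
  haveI : LocallyOfFiniteType H.hom := by rw [← Over.w h]; infer_instance
  haveI : QuasiCompact H.hom := by rw [← Over.w h]; infer_instance
  haveI : IsCommMonObj H := AntiAffLib.CommCat.isComm_of_mono h
  have hh1 : h ^ n = 1 := by
    have := hhk.w
    rwa [MonObj.comp_pow, Category.comp_id, ← Hom.one_def] at this
  have hH : (𝟙 H) ^ n = 1 := by
    rw [← cancel_mono h, MonObj.pow_comp, Category.id_comp, hh1, MonObj.one_comp]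
  obtain ⟨N, _, j, hj, hjc, hN, hmeet⟩ := exists_finite_meeting H hn hH
  haveI := hj; haveI := hjc; haveI := hN
  let u := j ≫ h
  haveI : IsClosedImmersion u.left := by rw [Over.comp_left]; infer_instance
  haveI : Mono u := Over.mono_of_mono_left u
  haveI : Flat N.hom := GrpField.flat_field _
  haveI : Flat G.hom := GrpField.flat_field _
  obtain ⟨V, _, q, hq, hqf, hqs, hql, hqk, hVsep, -, -⟩ := Groth.Agent.S3030.result k N G u
    (fun T g m => ⟨m, by
      letI : CommGroup (T ⟶ G) := Hom.commGroup
      rw [_root_.mul_comm g, mul_inv_cancel_right]⟩)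
  haveI := hq; haveI := hqf; haveI := hqs; haveI := hql; haveI := hVsep
  haveI : LocallyOfFiniteType V.hom := by
    haveI : LocallyOfFiniteType (q.left ≫ V.hom) := by rw [Over.w q]; infer_instance
    exact Groth.Agent.S5938.result q.left V.hom
  haveI : CompactSpace G.left := QuasiCompact.compactSpace_of_compactSpace G.hom
  haveI : CompactSpace V.left := ⟨by
    rw [← Set.range_eq_univ.mpr q.left.surjective]; exact isCompact_range q.left.continuous⟩
  haveI : QuasiCompact V.hom := quasiCompact_of_compactSpace _
  let e : V.left := (η[V] : 𝟙_ (Over (Spec (CommRingCat.of k))) ⟶ V).left (IsLocalRing.closedPoint k : PrimeSpectrum k)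
  have huq : ∀ z : N.left, q.left (u.left z) = e := fun z => by
    have h2 := congr(($(hqk.w)).left z)
    refine (show q.left (u.left z) = _ from h2).trans ?_
    exact congrArg _ (Subsingleton.elim (α := PrimeSpectrum k) _ _)
  let b : S ⊗ H ⟶ G := (fst S H ≫ s) * (snd S H ≫ h)
  haveI : UniversallyOpen S.hom := inferInstance
  have hconn : ConnectedSpace V.left := by
    haveI : Nonempty V.left := ⟨e⟩
    suffices hall : ∀ x : G.left, q.left x ∈ connectedComponent e by
      refine connectedSpace_iff_connectedComponent.2 ⟨e, Set.eq_univ_of_forall fun y => ?_⟩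
      obtain ⟨x, rfl⟩ := q.left.surjective y
      exact hall x
    have sqP := IsPullback.of_hasPullback g ((𝟙 S) ^ n)
    haveI : Surjective (pullback.fst g ((𝟙 S) ^ n)).left :=
      MorphismProperty.of_isPullback (P := @Surjective) (sqP.map (Over.forget _)).flip hns
    obtain ⟨w, hw⟩ := AntiAffLib.exists_lift_kernel hhk
        (pullback.fst g ((𝟙 S) ^ n) * (pullback.snd g ((𝟙 S) ^ n) ≫ s)⁻¹) (by
      letI : CommGroup (pullback g ((𝟙 S) ^ n) ⟶ G) := Hom.commGroup
      have hc : pullback.fst g ((𝟙 S) ^ n) ^ n = (pullback.snd g ((𝟙 S) ^ n) ≫ s) ^ n := by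
        have := congrArg (· ≫ s) (pullback.condition (f := g) (g := (𝟙 S) ^ n))
        simpa only [Category.assoc, hg, MonObj.comp_pow, Category.comp_id, MonObj.pow_comp, Category.id_comp] using this
      rw [MonObj.comp_pow, Category.comp_id, mul_pow, inv_pow, hc, mul_inv_cancel])
    have hb : lift (pullback.snd g ((𝟙 S) ^ n)) w ≫ b = pullback.fst g ((𝟙 S) ^ n) := by
      letI : CommGroup (pullback g ((𝟙 S) ^ n) ⟶ G) := Hom.commGroup
      simp only [b, MonObj.comp_mul, lift_fst_assoc, lift_snd_assoc, hw]
      exact mul_inv_cancel_comm_assoc _ _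
    haveI : GeometricallyIrreducible (snd S H).left :=
      inferInstanceAs (GeometricallyIrreducible (Limits.pullback.snd S.hom H.hom))
    haveI : UniversallyOpen (snd S H).left := inferInstanceAs (UniversallyOpen (Limits.pullback.snd S.hom H.hom))
    intro x
    obtain ⟨p, hp⟩ := (pullback.fst g ((𝟙 S) ^ n)).left.surjective x
    let m : (S ⊗ H).left := (lift (pullback.snd g ((𝟙 S) ^ n)) w).left p
    have hm : b.left m = x := by
      rw [← hp, ← hb]
      rfl
    rw [← hm]
    let c := connectedComponent ((snd S H).left m)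
    have hfib : ∀ t : H.left, _root_.IsConnected ((snd S H).left ⁻¹' {t}) := fun t =>
      ((snd S H).left.isIrreducible_preimage (snd S H).left.isOpenMap isIrreducible_singleton).isConnected
    have hcov : _root_.IsPreconnected ((snd S H).left ⁻¹' c) :=
      (preimage_connectedComponent_connected hfib
        ((snd S H).left.isOpenMap.isQuotientMap (snd S H).left.continuous (snd S H).left.surjective).isCoinducing
        _).isPreconnected
    obtain ⟨z, hz⟩ := hmeet ((snd S H).left m)
    -- the section over the unit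
    let σ : H ⟶ S ⊗ H := lift 1 (𝟙 H)
    have hσ1 : σ ≫ b = h := by
      simp only [σ, b, MonObj.comp_mul, lift_fst_assoc, lift_snd_assoc, MonObj.one_comp, _root_.one_mul,
        Category.id_comp]
    have hσ : σ.left (j.left z) ∈ (snd S H).left ⁻¹' c := by
      show (snd S H).left (σ.left (j.left z)) ∈ c
      rw [← Scheme.Hom.comp_apply, ← Over.comp_left, lift_snd]
      exact hz
    refine _root_.IsPreconnected.subset_connectedComponent (hcov.image _ (q.left.continuous.comp b.left.continuous).continuousOn)
      ⟨σ.left (j.left z), hσ, ?_⟩ ⟨m, mem_connectedComponent, rfl⟩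
    show q.left (b.left (σ.left (j.left z))) = e
    rw [← Scheme.Hom.comp_apply σ.left, ← Over.comp_left, hσ1, ← huq z]
    rfl
  obtain ⟨Q, _, v, hv, hQs, hvf, hvs, hvfin, hQq⟩ := exists_finite_smooth V
  haveI := hv; haveI := hQs; haveI := hvf; haveI := hvs; haveI := hvfin; haveI := hQq
  haveI : QuasiCompact q.left := by
    haveI : QuasiCompact (q.left ≫ V.hom) := by rw [Over.w q]; infer_instance
    exact QuasiCompact.of_comp q.left V.hom
  haveI : IsFinite q.left := isFinite_of_kernel u q hqk inferInstance
  obtain ⟨E, _, i, hi, hic, hik, -⟩ := AntiAffLib.exists_kernel (q ≫ v)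
  haveI := hi; haveI := hic
  haveI hqvf : IsFinite (q ≫ v).left := by rw [Over.comp_left]; infer_instance
  haveI : IsFinite E.hom := by
    haveI : IsFinite (toUnit E).left :=
      MorphismProperty.of_isPullback (P := @IsFinite) (hik.map (Over.forget _)) hqvf
    rw [← Over.w (toUnit E)]
    exact inferInstanceAs (IsFinite ((toUnit E).left ≫ 𝟙 _))
  refine ⟨E, Q, inferInstance, inferInstance, i, q ≫ v, hi, inferInstance, Over.mono_of_mono_left i,
    inferInstance, hik, by rw [Over.comp_left]; infer_instance, by rw [Over.comp_left]; infer_instance, hQs, ?_⟩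
  exact v.left.surjective.connectedSpace v.left.continuous

end FinConnQuot

end
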