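import Groth.Agent.SemiAbLib.CompExp
import Groth.Agent.GenSubLib.Points
import Groth.Agent.FibDegLib.Field
import Groth.Agent.AbSchLib.Flat
import Groth.Agent.S1550
import Groth.Agent.S0064
import Mathlib.GroupTheory.FiniteAbelian.Basic

/-!
Finite subgroups of a smooth torsion group meeting every open set of a finite family.
-/

set_option autoImplicit false
set_option linter.style.haveILetI false
set_option backward.isDefEq.respectTransparency false
set_option backward.isDefEq.respectTransparency.types false
set_option maxHeartbeats 800000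

noncomputable section

universe u

open CategoryTheory CategoryTheory.Limits MonoidalCategory CartesianMonoidalCategory AlgebraicGeometry
open scoped MonObj
open Groth.Agent

attribute [-instance] CategoryTheory.Hom.commGroup

namespace FinConnQuot

variable {k : Type u} [Field k] {U X : Over (Spec (CommRingCat.of k))} [GrpObj U]

/-- Values of words on field-valued points lie in the group generated by the values. -/
theorem comp_word_mem {T : Over (Spec (CommRingCat.of k))} (f : X ⟶ U) :
    ∀ (l : List Bool) (z : T ⟶ GenSub.Word X l),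
      z ≫ GenSub.word f l ∈ Subgroup.closure (Set.range fun x : T ⟶ X => x ≫ f)
  | [], z => by
      rw [show z ≫ GenSub.word f [] = 1 from MonObj.comp_one _]
      exact one_mem _
  | b :: l, z => by
      rw [show z ≫ GenSub.word f (b :: l) = (z ≫ fst X (GenSub.Word X l) ≫ GenSub.letter f b) *
        (z ≫ snd X (GenSub.Word X l) ≫ GenSub.word f l) from MonObj.comp_mul _ _ _]
      refine mul_mem ?_ (by rw [← Category.assoc]; exact comp_word_mem f l _)
      rw [← Category.assoc, GenSub.letter_comp]
      cases b
      · exact inv_mem (Subgroup.subset_closure ⟨_, rfl⟩)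
      · exact Subgroup.subset_closure ⟨_, rfl⟩

theorem word_props [LocallyOfFiniteType X.hom] [LocallyQuasiFinite X.hom] : ∀ l : List Bool,
    LocallyQuasiFinite (GenSub.Word X l).hom ∧ LocallyOfFiniteType (GenSub.Word X l).hom
  | [] => ⟨inferInstanceAs (LocallyQuasiFinite (𝟙 (Spec (CommRingCat.of k)))),
      inferInstanceAs (LocallyOfFiniteType (𝟙 (Spec (CommRingCat.of k))))⟩
  | b :: l => by
      obtain ⟨h1, h2⟩ := word_props l
      haveI := h1; haveI := h2
      refine ⟨?_, ?_⟩
      · show LocallyQuasiFinite (Limits.pullback.fst X.hom (GenSub.Word X l).hom ≫ X.hom)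
        haveI : LocallyQuasiFinite (Limits.pullback.fst X.hom (GenSub.Word X l).hom) :=
          MorphismProperty.pullback_fst _ _ inferInstance
        infer_instance
      · show LocallyOfFiniteType (Limits.pullback.fst X.hom (GenSub.Word X l).hom ≫ X.hom)
        haveI : LocallyOfFiniteType (Limits.pullback.fst X.hom (GenSub.Word X l).hom) :=
          MorphismProperty.pullback_fst _ _ inferInstance
        infer_instance

/-- The words in a finite etale family of points of a torsion commutative group form a finite closed set. -/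
theorem wordSet_finite [IsCommMonObj U] [LocallyOfFiniteType U.hom] [Etale X.hom] [QuasiCompact X.hom]
    (f : X ⟶ U) {n : ℕ} (hn : 0 < n) (hU : (𝟙 U) ^ n = 1) :
    (GenSub.wordSet f).Finite ∧ ∀ y ∈ GenSub.wordSet f, IsClosed ({y} : Set U.left) := by
  haveI : LocallyQuasiFinite X.hom := S0064.locallyQuasiFinite_of_unramified X.hom
  constructor
  · let K := AlgebraicClosure k
    let T : Over (Spec (CommRingCat.of k)) := Over.mk (Spec.map (CommRingCat.ofHom (algebraMap k K)))
    let t : T.left := (IsLocalRing.closedPoint K : PrimeSpectrum K)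
    haveI : Finite {a : Spec (CommRingCat.of K) ⟶ X.left // a ≫ X.hom = T.hom} := S0064.finite_lifts X.hom K T.hom
    haveI : Finite (T ⟶ X) := Finite.of_injective
      (fun x => (⟨x.left, Over.w x⟩ : {a : Spec (CommRingCat.of K) ⟶ X.left // a ≫ X.hom = T.hom}))
      fun x y h => Over.OverMorphism.ext (congrArg Subtype.val h)
    letI : CommGroup (T ⟶ U) := Hom.commGroup
    let M : Subgroup (T ⟶ U) := Subgroup.closure (Set.range fun x : T ⟶ X => x ≫ f)
    haveI : Group.FG M := Group.closure_finite_fg _
    haveI : Finite M := CommGroup.finite_of_fg_isMulTorsion _ fun m =>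
      isOfFinOrder_iff_pow_eq_one.2 ⟨n, hn, Subtype.ext (by
        rw [SubmonoidClass.coe_pow, ← Category.comp_id (m : T ⟶ U), ← MonObj.comp_pow, hU, MonObj.comp_one]
        rfl)⟩
    refine (Set.finite_range fun m : M => (m : T ⟶ U).left t).subset ?_
    intro y hy
    obtain ⟨l, w, rfl⟩ := Set.mem_iUnion.1 hy
    obtain ⟨hlq, hlt⟩ := word_props (X := X) l.down
    haveI := hlq; haveI := hlt
    let W := GenSub.Word X l.down
    letI : Algebra k (W.left.residueField w) :=
      (Spec.preimage (W.left.fromSpecResidueField w ≫ W.hom)).hom.toAlgebra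
    have hmap : Spec.map (CommRingCat.ofHom (algebraMap k (W.left.residueField w))) =
        W.left.fromSpecResidueField w ≫ W.hom := by
      rw [RingHom.algebraMap_toAlgebra]; exact Spec.map_preimage _
    haveI : IsClosedImmersion (W.left.fromSpecResidueField w) := by
      haveI := FibDegLib.discreteTopology W.hom
      haveI : JacobsonSpace W.left := LocallyOfFiniteType.jacobsonSpace W.hom
      exact isClosed_singleton_iff_isClosedImmersion.mp (isClosed_discrete _)
    haveI : LocallyQuasiFinite (Spec.map (CommRingCat.ofHom (algebraMap k (W.left.residueField w)))) := by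
      rw [hmap]; infer_instance
    haveI : Algebra.QuasiFinite k (W.left.residueField w) := by
      rw [← RingHom.quasiFinite_algebraMap]
      exact (HasRingHomProperty.Spec_iff (P := @LocallyQuasiFinite)).1 inferInstance
    haveI : Module.Finite k (W.left.residueField w) := Module.Finite.of_quasiFinite
    let σ : (W.left.residueField w : Type u) →ₐ[k] K := IsAlgClosed.lift
    let z : T ⟶ W := Over.homMk (Spec.map (CommRingCat.ofHom σ.toRingHom) ≫ W.left.fromSpecResidueField w) (by
      show (Spec.map (CommRingCat.ofHom σ.toRingHom) ≫ W.left.fromSpecResidueField w) ≫ W.hom =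
        Spec.map (CommRingCat.ofHom (algebraMap k K))
      rw [Category.assoc, ← hmap, ← Spec.map_comp, ← CommRingCat.ofHom_comp]
      congr 2
      exact σ.comp_algebraMap)
    refine ⟨⟨z ≫ GenSub.word f l.down, comp_word_mem f l.down z⟩, ?_⟩
    show (GenSub.word f l.down).left (z.left t) = _
    congr 1
    show W.left.fromSpecResidueField w _ = w
    exact Scheme.fromSpecResidueField_apply _ _
  · intro y hy
    obtain ⟨l, w, rfl⟩ := Set.mem_iUnion.1 hy
    obtain ⟨hlq, hlt⟩ := word_props (X := X) l.down
    haveI := hlq; haveI := hlt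
    haveI := FibDegLib.discreteTopology (GenSub.Word X l.down).hom
    haveI : JacobsonSpace (GenSub.Word X l.down).left := LocallyOfFiniteType.jacobsonSpace (GenSub.Word X l.down).hom
    haveI : JacobsonSpace U.left := LocallyOfFiniteType.jacobsonSpace U.hom
    haveI : LocallyOfFiniteType (GenSub.word f l.down).left := by
      haveI : LocallyOfFiniteType ((GenSub.word f l.down).left ≫ U.hom) := by rw [Over.w]; infer_instance
      exact locallyOfFiniteType_of_comp _ U.hom
    exact (GenSub.word f l.down).left.closePoints_subset_preimage_closedPoints (isClosed_discrete ({w} : Set _))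

/-- A smooth torsion group of finite type has a finite subgroup meeting finitely many given open sets. -/
theorem exists_finite_subgroup [IsCommMonObj U] [Smooth U.hom] [QuasiCompact U.hom] {n : ℕ} (hn : 0 < n)
    (hU : (𝟙 U) ^ n = 1) {J : Type u} [Finite J] (O : J → Set U.left) (hO : ∀ c, IsOpen (O c))
    (hne : ∀ c, (O c).Nonempty) :
    ∃ (Γ : Over (Spec (CommRingCat.of k))) (_ : GrpObj Γ) (i : Γ ⟶ U), IsMonHom i ∧ IsClosedImmersion i.left ∧
      IsFinite Γ.hom ∧ ∀ c, ∃ g : Γ.left, i.left g ∈ O c := by
  letI : U.left.Over (Spec (CommRingCat.of k)) := ⟨U.hom⟩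
  haveI : Smooth (U.left ↘ Spec (CommRingCat.of k)) := ‹Smooth U.hom›
  choose x hx hxc using fun c => (Groth.Agent.S1550.result k U.left).exists_mem_open (hO c) (hne c)
  let Y : J → Scheme.{u} := fun c => Spec (U.left.residueField (x c))
  have het : ∀ c, Etale (U.left.fromSpecResidueField (x c) ≫ U.hom) := fun c => by
    letI := Curv2.resAlgebra k U.left (x c)
    have hc : CommRingCat.ofHom (Curv2.resMap k U.left (x c)) =
        (Scheme.ΓSpecIso (CommRingCat.of k)).inv ≫ U.hom.appTop ≫ U.left.presheaf.germ ⊤ (x c) trivial ≫
          U.left.residue (x c) := rfl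
    have hc' : Spec.map (CommRingCat.ofHom (Curv2.resMap k U.left (x c))) =
        U.left.fromSpecResidueField (x c) ≫ U.hom := by
      rw [hc, Spec.map_comp, Spec.map_comp, Spec.map_comp]
      show _ = (Spec.map (U.left.residue (x c)) ≫ U.left.fromSpecStalk (x c)) ≫ U.hom
      rw [← Scheme.fromSpecStalk_toSpecΓ]
      simp only [Category.assoc]
      rw [← Scheme.toSpecΓ_naturality_assoc]
      simp
    rw [← hc']
    haveI := (hx c).2.1
    haveI := (hx c).2.2
    haveI : Algebra.FinitePresentation k (U.left.residueField (x c)) :=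
      Algebra.FinitePresentation.of_finiteType.1 inferInstance
    haveI : Algebra.Etale k (U.left.residueField (x c)) :=
      { formallyEtale := Algebra.FormallyEtale.of_isSeparable k _, finitePresentation := inferInstance }
    exact (HasRingHomProperty.Spec_iff (P := @Etale)).2 (RingHom.etale_algebraMap.2 inferInstance)
  let X : Over (Spec (CommRingCat.of k)) := Over.mk (Sigma.desc fun c => U.left.fromSpecResidueField (x c) ≫ U.hom)
  haveI : Etale X.hom := IsZariskiLocalAtSource.sigmaDesc het
  haveI : ∀ c, CompactSpace ↥(Y c) := fun c => inferInstanceAs (CompactSpace (PrimeSpectrum _))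
  haveI : CompactSpace ↥X.left := inferInstanceAs (CompactSpace ↥(∐ Y))
  haveI : QuasiCompact X.hom := (quasiCompact_iff_compactSpace X.hom).2 inferInstance
  haveI : GeometricallyReduced X.hom := AbSchLib.geometricallyReduced_of_smooth X.hom
  let f : X ⟶ U := Over.homMk (Sigma.desc fun c => U.left.fromSpecResidueField (x c)) (by
    refine Sigma.hom_ext _ _ fun c => ?_
    show Sigma.ι Y c ≫ (Sigma.desc fun c => U.left.fromSpecResidueField (x c)) ≫ U.hom =
      Sigma.ι Y c ≫ Sigma.desc (fun c => U.left.fromSpecResidueField (x c) ≫ U.hom)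
    rw [Sigma.ι_desc, Sigma.ι_desc_assoc])
  obtain ⟨Γ, hΓ, i, hi, hic, -, -, hr, -, f', hf'⟩ := GenSub.exists_generated f
  obtain ⟨hfin, hcl⟩ := wordSet_finite f hn hU
  have hclosed : IsClosed (GenSub.wordSet f) := by
    rw [← Set.biUnion_of_singleton (GenSub.wordSet f)]
    exact hfin.isClosed_biUnion hcl
  rw [hclosed.closure_eq] at hr
  haveI := hic
  haveI : LocallyOfFiniteType Γ.hom := by rw [← Over.w i]; infer_instance
  haveI : QuasiCompact Γ.hom := by rw [← Over.w i]; infer_instance
  haveI : Finite Γ.left := by
    haveI := (hr ▸ hfin : (Set.range i.left).Finite).to_subtype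
    exact Finite.of_equiv _ (Equiv.ofInjective _ i.left.isClosedEmbedding.injective).symm
  haveI : LocallyQuasiFinite Γ.hom := LocallyQuasiFinite.of_finite_preimage_singleton _ fun _ => Set.toFinite _
  refine ⟨Γ, hΓ, i, hi, hic, IsFinite.of_locallyQuasiFinite _, fun c => ?_⟩
  let p : Y c := (IsLocalRing.closedPoint (U.left.residueField (x c)) : PrimeSpectrum _)
  refine ⟨f'.left (Sigma.ι Y c p), ?_⟩
  have e : Sigma.ι Y c ≫ f'.left ≫ i.left = U.left.fromSpecResidueField (x c) := by
    rw [← Over.comp_left, hf']
    exact Sigma.ι_desc _ _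
  have e' : i.left (f'.left (Sigma.ι Y c p)) = x c :=
    (congr($e p)).trans (Scheme.fromSpecResidueField_apply _ _)
  rw [e']
  exact hxc c

end FinConnQuot

end
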